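import Mathlib

/-!
# Finite free pieces of flat quasi-finite algebras
-/

set_option autoImplicit false
set_option linter.style.haveILetI false

noncomputable section

universe u

open TensorProduct

namespace Groth.Agent.H8Props.QFFlat

variable {A B : Type u} [CommRing A] [CommRing B] [Algebra A B]

/-- Kernel of `B → κ(p) ⊗ B`. -/
theorem exists_mul_mem_map_of_fiber_eq_zero (p : Ideal A) [p.IsPrime] {z : B}
    (hz : (1 : p.ResidueField) ⊗ₜ[A] z = 0) :
    ∃ t ∉ p, algebraMap A B t * z ∈ p.map (algebraMap A B) := by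
  letI : Algebra B (p.Fiber B) := Algebra.TensorProduct.rightAlgebra
  let e := Ideal.Fiber.algEquivAux₁ (S := B) p
  have h1 : algebraMap B (p.Fiber B) z = 0 := hz
  have h2 := congrArg e h1
  rw [map_zero, e.commutes] at h2
  have h3 : algebraMap B (Localization (Algebra.algebraMapSubmonoid B p.primeCompl)) z ∈
      (p.map (algebraMap A B)).map
        (algebraMap B (Localization (Algebra.algebraMapSubmonoid B p.primeCompl))) :=
    Ideal.Quotient.eq_zero_iff_mem.1 h2
  rw [IsLocalization.mem_map_algebraMap_iff (Algebra.algebraMapSubmonoid B p.primeCompl)] at h3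
  obtain ⟨⟨a, s⟩, h3⟩ := h3
  rw [← map_mul, IsLocalization.eq_iff_exists (Algebra.algebraMapSubmonoid B p.primeCompl)] at h3
  obtain ⟨c, hc⟩ := h3
  obtain ⟨t, ht, hts⟩ := (c * s).2
  refine ⟨t, ht, ?_⟩
  have hts' : algebraMap A B t = (c : B) * (s : B) := hts
  rw [hts', mul_assoc, mul_comm (s : B), hc]
  exact Ideal.mul_mem_left _ _ a.2

theorem exists_residue_smul (p : Ideal A) [p.IsPrime] (k : p.ResidueField) :
    ∃ s ∉ p, ∃ a : A, algebraMap A p.ResidueField s * k = algebraMap A p.ResidueField a := by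
  obtain ⟨a, s, hs, rfl⟩ := IsFractionRing.div_surjective (A ⧸ p) k
  obtain ⟨a, rfl⟩ := Ideal.Quotient.mk_surjective a
  obtain ⟨s, rfl⟩ := Ideal.Quotient.mk_surjective s
  have hs0 : algebraMap (A ⧸ p) p.ResidueField (Ideal.Quotient.mk p s) ≠ 0 :=
    IsFractionRing.to_map_ne_zero_of_mem_nonZeroDivisors hs
  refine ⟨s, fun h => hs0 (by rw [Ideal.Quotient.eq_zero_iff_mem.2 h, map_zero]), a, ?_⟩
  rw [IsScalarTower.algebraMap_apply A (A ⧸ p) p.ResidueField,
    IsScalarTower.algebraMap_apply A (A ⧸ p) p.ResidueField a]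
  exact mul_div_cancel₀ _ hs0

/-- Lifts of a basis of the fibre at `p`. -/
theorem exists_fiber_basis [Algebra.QuasiFinite A B] (p : Ideal A) [p.IsPrime] :
    ∃ (r : ℕ) (b : Fin r → B),
      LinearIndependent p.ResidueField (fun i => ((1 : p.ResidueField) ⊗ₜ[A] b i : p.Fiber B)) ∧
      ∀ y : B, ∃ t ∉ p, ∃ c : Fin r → A,
        algebraMap A B t * y - ∑ i, algebraMap A B (c i) * b i ∈ p.map (algebraMap A B) := by
  classical
  let e := Module.finBasis p.ResidueField (p.Fiber B)
  choose r hr b hb using fun i => Ideal.Fiber.exists_smul_eq_one_tmul p (e i)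
  have hu : ∀ i, IsUnit (algebraMap A p.ResidueField (r i)) := fun i =>
    isUnit_iff_ne_zero.2 fun h => hr i (Ideal.algebraMap_residueField_eq_zero.1 h)
  let e' := e.isUnitSMul hu
  have he' : ⇑e' = fun i => ((1 : p.ResidueField) ⊗ₜ[A] b i : p.Fiber B) := by
    funext i
    rw [Module.Basis.isUnitSMul_apply, algebraMap_smul]
    exact hb i
  refine ⟨_, b, he' ▸ e'.linearIndependent, fun y => ?_⟩
  let w : p.Fiber B := (1 : p.ResidueField) ⊗ₜ[A] y
  choose s hs a ha using fun i => exists_residue_smul p (e'.repr w i)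
  let t := ∏ i, s i
  have ht : t ∉ p := fun h => by
    obtain ⟨i, -, hi⟩ := (‹p.IsPrime›.prod_mem_iff).1 h
    exact hs i hi
  let c := fun i => (∏ j ∈ Finset.univ.erase i, s j) * a i
  have h0 : (1 : p.ResidueField) ⊗ₜ[A]
      (algebraMap A B t * y - ∑ i, algebraMap A B (c i) * b i) = 0 := by
    simp_rw [← Algebra.smul_def]
    rw [tmul_sub, tmul_sum, sub_eq_zero, tmul_smul, ← algebraMap_smul p.ResidueField t]
    show algebraMap A p.ResidueField t • w = _
    conv_lhs => rw [← e'.sum_repr w, Finset.smul_sum]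
    refine Finset.sum_congr rfl fun i _ => ?_
    rw [tmul_smul, ← algebraMap_smul p.ResidueField (c i), he', smul_smul]
    congr 1
    show algebraMap A p.ResidueField (∏ j, s j) * _ = algebraMap A p.ResidueField (_ * a i)
    rw [← Finset.mul_prod_erase _ _ (Finset.mem_univ i), map_mul, map_mul, ← ha]
    ring
  obtain ⟨t', ht', hmem⟩ := exists_mul_mem_map_of_fiber_eq_zero p h0
  refine ⟨t' * t, fun h => (‹p.IsPrime›.mem_or_mem h).elim ht' ht, fun i => t' * c i, ?_⟩
  convert hmem using 1
  simp only [map_mul, mul_sub, Finset.mul_sum, mul_assoc]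

/-- Spanning modulo a nilpotent ideal. -/
theorem surjective_linearCombination {A1 : Type u} [CommRing A1] [Algebra A A1]
    {P : Ideal A1} {N : ℕ} (hP : P ^ N = ⊥) {r : ℕ} (b : Fin r → B) {n : ℕ}
    (f : MvPolynomial (Fin n) A →ₐ[A] B) (hf : Function.Surjective f)
    (h1 : (1 : A1) ⊗ₜ[A] (1 : B) ∈
      Submodule.span A1 (Set.range fun i => (1 : A1) ⊗ₜ[A] b i) ⊔ P • ⊤)
    (hx : ∀ j l, (1 : A1) ⊗ₜ[A] (f (MvPolynomial.X j) * b l) ∈
      Submodule.span A1 (Set.range fun i => (1 : A1) ⊗ₜ[A] b i) ⊔ P • ⊤) :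
    Function.Surjective (Fintype.linearCombination A1 fun i => (1 : A1) ⊗ₜ[A] b i) := by
  set M0 : Submodule A1 (A1 ⊗[A] B) := Submodule.span A1 (Set.range fun i => (1 : A1) ⊗ₜ[A] b i)
  set N' := M0 ⊔ P • ⊤
  let μ : B → (A1 ⊗[A] B) →ₗ[A1] (A1 ⊗[A] B) := fun y => LinearMap.mulLeft A1 ((1 : A1) ⊗ₜ[A] y)
  have hP' : ∀ y, ∀ z ∈ P • (⊤ : Submodule A1 (A1 ⊗[A] B)), μ y z ∈ P • (⊤ : Submodule A1 (A1 ⊗[A] B)) := by
    intro y z hz
    refine Submodule.smul_induction_on hz (fun c hc m _ => ?_) fun u v hu hv => ?_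
    · rw [map_smul]; exact Submodule.smul_mem_smul hc Submodule.mem_top
    · rw [map_add]; exact add_mem hu hv
  have hstab : ∀ p : MvPolynomial (Fin n) A, ∀ z ∈ N', μ (f p) z ∈ N' := by
    intro p
    induction p using MvPolynomial.induction_on with
    | C a =>
      intro z hz
      have : μ (f (MvPolynomial.C a)) z = algebraMap A A1 a • z := by
        rw [← MvPolynomial.algebraMap_eq, AlgHom.commutes]
        show ((1 : A1) ⊗ₜ[A] algebraMap A B a) * z = _
        rw [Algebra.algebraMap_eq_smul_one, tmul_smul, ← Algebra.TensorProduct.one_def, smul_mul_assoc,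
          one_mul, algebraMap_smul]
      rw [this]; exact N'.smul_mem _ hz
    | add p q hp hq =>
      intro z hz
      have : μ (f (p + q)) z = μ (f p) z + μ (f q) z := by simp [μ, tmul_add, add_mul]
      rw [this]; exact add_mem (hp z hz) (hq z hz)
    | mul_X p j hp =>
      intro z hz
      have : μ (f (p * MvPolynomial.X j)) z = μ (f p) (μ (f (MvPolynomial.X j)) z) := by
        simp [μ, ← mul_assoc]
      rw [this]
      refine hp _ ?_
      obtain ⟨u, hu, v, hv, rfl⟩ := Submodule.mem_sup.1 hz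
      rw [map_add]
      refine add_mem ?_ (Submodule.mem_sup_right (hP' _ v hv))
      suffices h : M0.map (μ (f (MvPolynomial.X j))) ≤ N' from h ⟨u, hu, rfl⟩
      rw [Submodule.map_span, Submodule.span_le]
      rintro _ ⟨_, ⟨l, rfl⟩, rfl⟩
      show ((1 : A1) ⊗ₜ[A] f (MvPolynomial.X j)) * ((1 : A1) ⊗ₜ[A] b l) ∈ N'
      rw [Algebra.TensorProduct.tmul_mul_tmul, mul_one]
      exact hx j l
  have htop : N' = ⊤ := by
    refine eq_top_iff.2 fun z _ => ?_
    induction z using TensorProduct.induction_on with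
    | zero => exact zero_mem _
    | tmul a y =>
      obtain ⟨q, rfl⟩ := hf y
      have h2 := hstab q _ h1
      rw [show μ (f q) ((1 : A1) ⊗ₜ[A] (1 : B)) = (1 : A1) ⊗ₜ[A] f q by simp [μ]] at h2
      have := N'.smul_mem a h2
      rwa [TensorProduct.smul_tmul', smul_eq_mul, mul_one] at this
    | add u v hu hv => exact add_mem (hu trivial) (hv trivial)
  have hiter : ∀ k, M0 ⊔ P ^ k • (⊤ : Submodule A1 (A1 ⊗[A] B)) = ⊤ := by
    intro k
    induction k with
    | zero => rw [pow_zero, Ideal.one_eq_top, Submodule.top_smul, sup_top_eq]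
    | succ k ih =>
      refine eq_top_iff.2 (le_of_eq_of_le ih.symm (sup_le le_sup_left ?_))
      conv_lhs => rw [← htop, Submodule.smul_sup, ← Submodule.mul_smul, ← pow_succ]
      exact sup_le_sup_right (Submodule.smul_le.2 fun a _ m hm => M0.smul_mem a hm) _
  have hM0 : M0 = ⊤ := by simpa [hP] using hiter N
  rw [← LinearMap.range_eq_top, Fintype.range_linearCombination]
  exact hM0

/-- A spanning family which is a basis at a prime is a basis up to a unit at that prime. -/
theorem exists_det {A1 k : Type u} [CommRing A1] [Algebra A A1] [Field k] [Algebra A k]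
    (ψ : A1 →ₐ[A] k) [Module.Flat A B] [Algebra.FinitePresentation A B] {r : ℕ} (b : Fin r → B)
    (hli : LinearIndependent k (fun i => ((1 : k) ⊗ₜ[A] b i : k ⊗[A] B)))
    (hsurj : Function.Surjective (Fintype.linearCombination A1 fun i => (1 : A1) ⊗ₜ[A] b i)) :
    ∃ d : A1, ψ d ≠ 0 ∧ ∀ (M : Type u) [AddCommGroup M] [Module A M] [Module A1 M]
      [IsScalarTower A A1 M] (m : Fin r → M), ∑ i, m i ⊗ₜ[A] b i = 0 → ∀ i, d • m i = 0 := by
  classical
  set l := Fintype.linearCombination A1 fun i => (1 : A1) ⊗ₜ[A] b i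
  have : Module.Finite A1 (A1 ⊗[A] B) := Module.Finite.of_surjective l hsurj
  have : Module.FinitePresentation A1 (A1 ⊗[A] B) :=
    Module.FinitePresentation.of_finite_of_finitePresentation _ _
  have : Module.Projective A1 (A1 ⊗[A] B) := Module.Flat.projective_of_finitePresentation
  obtain ⟨σ, hσ⟩ := Module.projective_lifting_property l LinearMap.id hsurj
  let E : Matrix (Fin r) (Fin r) A1 := Matrix.of fun i j => σ ((1 : A1) ⊗ₜ[A] b j) i
  refine ⟨E.det, ?_, ?_⟩
  · have hE : E.map ψ = 1 := by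
      ext i j
      have h1 : l (σ ((1 : A1) ⊗ₜ[A] b j)) = (1 : A1) ⊗ₜ[A] b j := LinearMap.congr_fun hσ _
      let Ψ : A1 ⊗[A] B →ₗ[A] k ⊗[A] B := TensorProduct.map ψ.toLinearMap LinearMap.id
      have h2 := congrArg Ψ h1
      simp only [l, Fintype.linearCombination_apply, map_sum, TensorProduct.smul_tmul',
        smul_eq_mul, mul_one, Ψ, TensorProduct.map_tmul, AlgHom.toLinearMap_apply, map_one,
        LinearMap.id_coe, id_eq] at h2
      have h3 : ∑ i, (ψ (E i j) - if i = j then 1 else 0) • ((1 : k) ⊗ₜ[A] b i : k ⊗[A] B) = 0 := by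
        simp only [sub_smul, Finset.sum_sub_distrib, ite_smul, one_smul, zero_smul,
          Finset.sum_ite_eq', Finset.mem_univ, if_true, TensorProduct.smul_tmul', smul_eq_mul, mul_one]
        exact sub_eq_zero.2 h2
      have h4 := Fintype.linearIndependent_iff.1 hli _ h3 i
      rw [sub_eq_zero] at h4
      simpa [Matrix.one_apply] using h4
    rw [AlgHom.map_det]
    show (E.map ψ).det ≠ 0
    rw [hE, Matrix.det_one]
    exact one_ne_zero
  · intro M _ _ _ _ m hm i
    let φ : M →ₗ[A] B →ₗ[A] (Fin r → M) := LinearMap.mk₂ A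
      (fun x y i => σ ((1 : A1) ⊗ₜ[A] y) i • x)
      (fun x x' y => by ext; simp)
      (fun c x y => by ext i; simp only [Pi.smul_apply]; rw [smul_comm])
      (fun x y y' => by ext; simp [tmul_add, add_smul])
      (fun c x y => by
        ext i
        rw [tmul_smul, ← algebraMap_smul A1 c, map_smul, Pi.smul_apply, smul_eq_mul, mul_smul,
          algebraMap_smul, Pi.smul_apply])
    have h1 := congrArg (TensorProduct.lift φ) hm
    simp only [map_sum, map_zero, TensorProduct.lift.tmul] at h1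
    have h2 : ∀ j, ∑ l, E j l • m l = 0 := fun j => by
      have := congrFun h1 j
      simpa [φ, E] using this
    have h3 : E.det • m i = ∑ j, E.adjugate i j • ∑ l, E j l • m l := by
      simp only [Finset.smul_sum, smul_smul]
      rw [Finset.sum_comm]
      simp only [← Finset.sum_smul, ← Matrix.mul_apply, Matrix.adjugate_mul]
      simp [Matrix.one_apply]
    rw [h3]
    simp [h2]

end Groth.Agent.H8Props.QFFlat
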