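import Mathlib
import Groth.Agent.H8Props.QFFlat.FreePiece

/-!
# Sections of flat quasi-finite algebras lie in free submodules after localisation
-/

set_option autoImplicit false
set_option linter.style.haveILetI false

noncomputable section

universe u

open TensorProduct

namespace Groth.Agent.H8Props.QFFlat

variable {A B : Type u} [CommRing A] [CommRing B] [Algebra A B]

theorem exists_fg_mem_map {p : Ideal A} {z : B} (hz : z ∈ p.map (algebraMap A B)) :
    ∃ J : Ideal A, J.FG ∧ J ≤ p ∧ z ∈ J.map (algebraMap A B) := by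
  classical
  obtain ⟨T, hT, hz⟩ := Submodule.mem_span_finite_of_mem_span hz
  choose a ha ha' using fun x : T => hT x.2
  refine ⟨Ideal.span (Set.range a), Submodule.fg_span (Set.finite_range a), ?_, ?_⟩
  · exact Ideal.span_le.2 (Set.range_subset_iff.2 ha)
  · rw [Ideal.map_span]
    refine Ideal.span_mono ?_ hz
    intro x hx
    exact ⟨a ⟨x, hx⟩, ⟨_, rfl⟩, ha' ⟨x, hx⟩⟩

/-- At a minimal prime over the annihilator of `g`, a finitely generated ideal in that prime has a
power killing `g` after localising. -/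
theorem exists_mul_pow_le {J : Ideal A} {p : Ideal A} [p.IsPrime] (hp : p ∈ J.minimalPrimes)
    {I : Ideal A} (hI : I.FG) (hIp : I ≤ p) :
    ∃ h ∉ p, ∃ N : ℕ, ∀ a ∈ I ^ N, h * a ∈ J := by
  classical
  have hrad : p.map (algebraMap A (Localization.AtPrime p)) ≤
      (J.map (algebraMap A (Localization.AtPrime p))).radical := by
    rw [Ideal.radical_eq_sInf, le_sInf_iff]
    rintro q ⟨hq', hq⟩
    obtain ⟨h₁, h₂⟩ := ((IsLocalization.AtPrime.orderIsoOfPrime _ p) ⟨q, hq⟩).2
    rw [Ideal.map_le_iff_le_comap] at hq' ⊢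
    exact hp.2 ⟨h₁, hq'⟩ h₂
  obtain ⟨N, hN⟩ := Ideal.exists_pow_le_of_le_radical_of_fg ((Ideal.map_mono hIp).trans hrad)
    (hI.map _)
  rw [← Ideal.map_pow] at hN
  obtain ⟨T, hT⟩ := Submodule.FG.pow hI N
  have key : ∀ a ∈ T, ∃ h ∉ p, h * a ∈ J := by
    intro a ha
    have h1 := hN (Ideal.mem_map_of_mem _ (hT ▸ Submodule.subset_span ha))
    rw [IsLocalization.mem_map_algebraMap_iff p.primeCompl] at h1
    obtain ⟨⟨j, s⟩, h1⟩ := h1
    rw [← map_mul, IsLocalization.eq_iff_exists p.primeCompl] at h1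
    obtain ⟨c, hc⟩ := h1
    refine ⟨c * s, fun h => (‹p.IsPrime›.mem_or_mem h).elim c.2 s.2, ?_⟩
    rw [mul_assoc, mul_comm (s : A), hc]
    exact J.mul_mem_left _ j.2
  choose h hh hha using key
  refine ⟨∏ a : T, h a.1 a.2, fun hc => ?_, N, ?_⟩
  · obtain ⟨i, -, hi⟩ := (‹p.IsPrime›.prod_mem_iff).1 hc
    exact hh _ _ hi
  · intro a ha
    rw [← hT] at ha
    refine Submodule.span_induction (fun x hx => ?_) (by simp) (fun x y _ _ hx hy => ?_)
      (fun c x _ hx => ?_) ha
    · rw [← Finset.mul_prod_erase _ _ (Finset.mem_univ (⟨x, hx⟩ : T)), mul_right_comm]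
      exact J.mul_mem_right _ (hha x hx)
    · rw [mul_add]; exact J.add_mem hx hy
    · rw [smul_eq_mul, mul_left_comm]; exact J.mul_mem_left _ hx

theorem tmul_mem_smul_top {A1 : Type u} [CommRing A1] [Algebra A A1] {I : Ideal A} {z : B}
    (hz : z ∈ I.map (algebraMap A B)) :
    (1 : A1) ⊗ₜ[A] z ∈ I.map (algebraMap A A1) • (⊤ : Submodule A1 (A1 ⊗[A] B)) := by
  induction hz using Submodule.span_induction with
  | mem x hx =>
    obtain ⟨a, ha, rfl⟩ := hx
    rw [Algebra.algebraMap_eq_smul_one, tmul_smul, ← algebraMap_smul A1 a]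
    exact Submodule.smul_mem_smul (Ideal.mem_map_of_mem _ ha) Submodule.mem_top
  | zero => rw [tmul_zero]; exact zero_mem _
  | add x y _ _ hx hy => rw [tmul_add]; exact add_mem hx hy
  | smul c x _ hx =>
    have h : (1 : A1) ⊗ₜ[A] (c • x) = LinearMap.mulLeft A1 ((1 : A1) ⊗ₜ[A] c) ((1 : A1) ⊗ₜ[A] x) := by
      simp [smul_eq_mul]
    rw [h]
    refine Submodule.smul_induction_on hx (fun d hd m _ => ?_) fun u v hu hv => ?_
    · rw [map_smul]; exact Submodule.smul_mem_smul hd Submodule.mem_top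
    · rw [map_add]; exact add_mem hu hv

/-- For a flat quasi-finite finitely presented algebra, a nonzero element lies, after inverting a
single element of the base, in the image of an injective map from a finite power of an ideal. -/
theorem exists_injective_pi [Module.Flat A B] [Algebra.FinitePresentation A B]
    [Algebra.QuasiFinite A B] (g : B) (hg : g ≠ 0) :
    ∃ h : A, ∀ (Ah : Type u) [CommRing Ah] [Algebra A Ah] [IsLocalization.Away h Ah],
      (1 : Ah) ⊗ₜ[A] g ≠ 0 ∧ ∃ (F : Ideal Ah) (r : ℕ), 0 < r ∧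
        ∃ φ : (Fin r → F) →ₗ[Ah] Ah ⊗[A] B, Function.Injective φ ∧
          (1 : Ah) ⊗ₜ[A] g ∈ LinearMap.range φ := by
  classical
  let J : Ideal A := LinearMap.ker (LinearMap.toSpanSingleton A B g)
  have hJmem : ∀ {a : A}, a ∈ J ↔ a • g = 0 := Iff.rfl
  have hJ : J ≠ ⊤ := fun h => hg (by
    have := hJmem.1 (h ▸ Submodule.mem_top : (1 : A) ∈ J)
    simpa using this)
  obtain ⟨⟨p, hp⟩⟩ := Ideal.nonempty_minimalPrimes hJ
  haveI : p.IsPrime := hp.1.1
  obtain ⟨r, b, hli, hspan⟩ := exists_fiber_basis (B := B) p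
  choose t ht c hc using hspan
  choose J₀ hJ₀fg hJ₀p hJ₀mem using fun y => exists_fg_mem_map (hc y)
  obtain ⟨n, f, hf⟩ :=
    Algebra.FiniteType.iff_quotient_mvPolynomial''.mp (inferInstance : Algebra.FiniteType A B)
  let Y : Option (Fin n × Fin r) → B := fun o =>
    o.elim 1 fun jl => f (MvPolynomial.X jl.1) * b jl.2
  let I₀ : Ideal A := ⨆ o, J₀ (Y o)
  have hI₀fg : I₀.FG := Submodule.fg_iSup _ fun o => hJ₀fg _
  have hI₀p : I₀ ≤ p := iSup_le fun o => hJ₀p _
  obtain ⟨hJ', hhJ', N, hN⟩ := exists_mul_pow_le hp hI₀fg hI₀p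
  let h₁ := hJ' * ∏ o, t (Y o)
  have hh₁ : h₁ ∉ p := fun h => (‹p.IsPrime›.mem_or_mem h).elim hhJ' fun h => by
    obtain ⟨o, -, ho⟩ := (‹p.IsPrime›.prod_mem_iff).1 h
    exact ht _ ho
  let L := Localization.Away h₁
  let A1 := L ⧸ (I₀ ^ N).map (algebraMap A L)
  let P : Ideal A1 := I₀.map (algebraMap A A1)
  have hP : P ^ N = ⊥ := by
    rw [← Ideal.map_pow, IsScalarTower.algebraMap_eq A L A1, ← Ideal.map_map,
      Ideal.Quotient.algebraMap_eq, Ideal.map_quotient_self]
  have hunit : ∀ o, IsUnit (algebraMap A A1 (t (Y o))) := fun o => by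
    refine isUnit_of_dvd_unit (map_dvd _ ((Finset.dvd_prod_of_mem (fun o => t (Y o)) (Finset.mem_univ o)).mul_left hJ')) ?_
    rw [IsScalarTower.algebraMap_apply A L A1]
    exact (IsLocalization.Away.algebraMap_isUnit (S := L) h₁).map _
  have hspan1 : ∀ o, (1 : A1) ⊗ₜ[A] Y o ∈
      Submodule.span A1 (Set.range fun i => (1 : A1) ⊗ₜ[A] b i) ⊔ P • ⊤ := by
    intro o
    rw [← Submodule.smul_mem_iff_of_isUnit _ (hunit o)]
    have h1 : algebraMap A A1 (t (Y o)) • ((1 : A1) ⊗ₜ[A] Y o) =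
        ∑ i, algebraMap A A1 (c (Y o) i) • ((1 : A1) ⊗ₜ[A] b i) +
        (1 : A1) ⊗ₜ[A] (algebraMap A B (t (Y o)) * Y o - ∑ i, algebraMap A B (c (Y o) i) * b i) := by
      simp only [tmul_sub, tmul_sum, algebraMap_smul, ← Algebra.smul_def, tmul_smul,
        add_sub_cancel]
    rw [h1]
    refine add_mem (Submodule.mem_sup_left (Submodule.sum_mem _ fun i _ =>
      Submodule.smul_mem _ _ (Submodule.subset_span ⟨i, rfl⟩))) (Submodule.mem_sup_right ?_)
    exact Submodule.smul_mono_left (Ideal.map_mono (le_iSup (fun o => J₀ (Y o)) o))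
      (tmul_mem_smul_top (hJ₀mem _))
  have hsurj := surjective_linearCombination hP b f hf (hspan1 none) fun j l => hspan1 (some (j, l))
  let ψL : L →ₐ[A] p.ResidueField :=
    IsLocalization.liftAlgHom (M := Submonoid.powers h₁) (f := Algebra.ofId A p.ResidueField)
      fun y => by
        obtain ⟨k, hk⟩ := y.2
        refine isUnit_iff_ne_zero.2 fun h0 => hh₁ (‹p.IsPrime›.mem_of_pow_mem k ?_)
        rw [← hk] at h0
        exact Ideal.algebraMap_residueField_eq_zero.1 h0
  have hker : ∀ a ∈ (I₀ ^ N).map (algebraMap A L), ψL a = 0 := by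
    intro a ha
    refine (Ideal.map_le_iff_le_comap.2 ?_ : (I₀ ^ N).map (algebraMap A L) ≤ RingHom.ker ψL) ha
    intro a ha
    show ψL (algebraMap A L a) = 0
    rw [AlgHom.commutes, Ideal.algebraMap_residueField_eq_zero]
    rcases Nat.eq_zero_or_pos N with hN0 | hN0
    · exact absurd (hp.1.2 (by simpa using hN 1 (by simp [hN0]))) hhJ'
    · exact hI₀p (Ideal.pow_le_self hN0.ne' ha)
  let ψ : A1 →ₐ[A] p.ResidueField := Ideal.Quotient.liftₐ _ ψL hker
  obtain ⟨d, hd, hdet⟩ := exists_det ψ b hli hsurj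
  obtain ⟨dL, rfl⟩ := Ideal.Quotient.mk_surjective d
  obtain ⟨⟨a, s⟩, hs⟩ := IsLocalization.surj (Submonoid.powers h₁) dL
  have ha : a ∉ p := fun h => by
    have h1 : ψL (dL * algebraMap A L s) = ψL (algebraMap A L a) := congrArg ψL hs
    rw [map_mul, AlgHom.commutes, AlgHom.commutes, Ideal.algebraMap_residueField_eq_zero.2 h,
      mul_eq_zero] at h1
    obtain ⟨k, hk⟩ := s.2
    refine h1.elim hd fun h2 => hh₁ (‹p.IsPrime›.mem_of_pow_mem k ?_)
    rw [← hk] at h2
    exact Ideal.algebraMap_residueField_eq_zero.1 h2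
  refine ⟨h₁ * a, fun Ah _ _ _ => ?_⟩
  have hua : IsUnit (algebraMap A Ah h₁) ∧ IsUnit (algebraMap A Ah a) := by
    rw [← IsUnit.mul_iff, ← map_mul]
    exact IsLocalization.Away.algebraMap_isUnit (h₁ * a)
  have hne : (1 : Ah) ⊗ₜ[A] g ≠ 0 := by
    intro h0
    haveI : IsLocalizedModule (Submonoid.powers (h₁ * a)) (TensorProduct.mk A Ah B 1) :=
      (isLocalizedModule_iff_isBaseChange _ Ah _).mpr (TensorProduct.isBaseChange _ _ _)
    obtain ⟨⟨_, k, rfl⟩, hk⟩ := (IsLocalizedModule.eq_zero_iff (Submonoid.powers (h₁ * a))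
      (TensorProduct.mk A Ah B 1)).1 h0
    exact (fun h => (‹p.IsPrime›.mem_or_mem (‹p.IsPrime›.mem_of_pow_mem k h)).elim hh₁ ha)
      (hp.1.2 (hJmem.2 hk))
  obtain ⟨T, hT⟩ := Submodule.FG.pow hI₀fg N
  let δ : Ah →ₗ[A] (T → Ah) := LinearMap.pi fun a => (a : A) • LinearMap.id
  let F : Ideal Ah := ⨅ a : T, LinearMap.ker (LinearMap.mulLeft Ah (algebraMap A Ah a.1))
  have hFmem : ∀ {x : Ah}, x ∈ F ↔ ∀ a : T, algebraMap A Ah a * x = 0 := by
    intro x; simp [F]
  have hIF : ∀ x ∈ F, ∀ y ∈ (I₀ ^ N).map (algebraMap A Ah), y * x = 0 := by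
    intro x hx y hy
    rw [← hT] at hy
    change y ∈ Ideal.map _ (Ideal.span (T : Set A)) at hy
    rw [Ideal.map_span] at hy
    refine (Ideal.span_le.2 ?_ : Ideal.span _ ≤ LinearMap.ker (LinearMap.mulRight Ah x)) hy
    rintro _ ⟨a, ha, rfl⟩
    exact hFmem.1 hx ⟨a, ha⟩
  let ρL : L →ₐ[A] Ah := IsLocalization.liftAlgHom (M := Submonoid.powers h₁)
    (f := Algebra.ofId A Ah) fun y => by
      obtain ⟨k, hk⟩ := y.2
      rw [← hk]
      show IsUnit (algebraMap A Ah (h₁ ^ k))
      rw [map_pow]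
      exact hua.1.pow k
  let ρ : A1 →+* Ah ⧸ (I₀ ^ N).map (algebraMap A Ah) :=
    Ideal.quotientMap _ ρL.toRingHom (by
      rw [Ideal.map_le_iff_le_comap]
      intro x hx
      simp only [Ideal.mem_comap]
      show ρL (algebraMap A L x) ∈ _
      rw [AlgHom.commutes]
      exact Ideal.mem_map_of_mem _ hx)
  have htors : Module.IsTorsionBySet Ah F ((I₀ ^ N).map (algebraMap A Ah)) :=
    fun x y => Subtype.ext (hIF x.1 x.2 y.1 y.2)
  letI : Module (Ah ⧸ (I₀ ^ N).map (algebraMap A Ah)) F := htors.module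
  letI : Module A1 F := Module.compHom F ρ
  have hρ : ∀ r : A, ρ (algebraMap A A1 r) =
      Ideal.Quotient.mk ((I₀ ^ N).map (algebraMap A Ah)) (algebraMap A Ah r) := fun r => by
    rw [← ρL.commutes r, IsScalarTower.algebraMap_apply A L A1, Ideal.Quotient.algebraMap_eq]
    rfl
  haveI : IsScalarTower A A1 F := ⟨fun r a x => by
    show ρ (r • a) • x = r • (ρ a • x)
    rw [Algebra.smul_def r a, map_mul, mul_smul, hρ]
    show algebraMap A Ah r • (ρ a • x) = _
    rw [algebraMap_smul]⟩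
  let Θ : (Fin r → F) →ₗ[Ah] F ⊗[A] B :=
    { toFun := fun x => ∑ i, x i ⊗ₜ[A] b i
      map_add' := fun x y => by simp [add_tmul, Finset.sum_add_distrib]
      map_smul' := fun c x => by
        simp [Finset.smul_sum, TensorProduct.smul_tmul'] }
  have hΘinj : Function.Injective Θ := by
    rw [injective_iff_map_eq_zero]
    intro x hx
    funext i
    have h1 := hdet F x hx i
    have h2 : (Ideal.Quotient.mk ((I₀ ^ N).map (algebraMap A Ah)) (ρL dL)) • x i = 0 := h1
    change ρL dL • x i = 0 at h2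
    have hu : IsUnit (ρL dL) := by
      refine isUnit_of_mul_isUnit_left (y := algebraMap A Ah s) ?_
      rw [← ρL.commutes, ← map_mul, hs, AlgHom.commutes]
      exact hua.2
    exact (hu.smul_eq_zero).1 h2
  have hΘsurj : Function.Surjective Θ := by
    intro z
    induction z using TensorProduct.induction_on with
    | zero => exact ⟨0, map_zero _⟩
    | add u v hu hv =>
      obtain ⟨u, rfl⟩ := hu
      obtain ⟨v, rfl⟩ := hv
      exact ⟨u + v, map_add _ _ _⟩
    | tmul x y =>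
      obtain ⟨cy, hcy⟩ := hsurj ((1 : A1) ⊗ₜ[A] y)
      let ev : A1 →ₗ[A] F := (LinearMap.toSpanSingleton A1 F x).restrictScalars A
      have h1 := congrArg (LinearMap.rTensor B ev) hcy
      simp only [Fintype.linearCombination_apply, map_sum, TensorProduct.smul_tmul', smul_eq_mul,
        mul_one, LinearMap.rTensor_tmul, ev, LinearMap.restrictScalars_apply,
        LinearMap.toSpanSingleton_apply, one_smul] at h1
      exact ⟨fun i => cy i • x, h1⟩
  let κ : F ⊗[A] B →ₗ[Ah] Ah ⊗[A] B := TensorProduct.AlgebraTensorModule.rTensor A B F.subtype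
  have hκ : Function.Injective κ :=
    Module.Flat.rTensor_preserves_injective_linearMap (M := B) (F.subtype.restrictScalars A)
      Subtype.val_injective
  have hexact : Function.Exact ((F.subtype.restrictScalars A).rTensor B) (δ.rTensor B) := by
    refine Module.Flat.rTensor_exact B fun x => ?_
    constructor
    · intro hx
      refine ⟨⟨x, hFmem.2 fun a => ?_⟩, rfl⟩
      rw [← Algebra.smul_def]
      exact congrFun hx a
    · rintro ⟨y, rfl⟩
      funext a
      show (a : A) • (y : Ah) = 0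
      rw [Algebra.smul_def]
      exact hFmem.1 y.2 a
  have hδg : δ.rTensor B ((1 : Ah) ⊗ₜ[A] g) = 0 := by
    rw [LinearMap.rTensor_tmul]
    have h1 : δ 1 = ∑ a : T, (a : A) • Pi.single a (1 : Ah) := by
      funext a
      simp [δ, Finset.sum_apply, Pi.single_apply, Algebra.smul_def]
    rw [h1, sum_tmul]
    refine Finset.sum_eq_zero fun a _ => ?_
    rw [TensorProduct.smul_tmul]
    have h2 : (h₁ * (a : A)) • g = 0 := by
      have h3 := hJmem.1 (hN (a : A) (hT ▸ Submodule.subset_span a.2))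
      rw [show h₁ * (a : A) = (∏ o, t (Y o)) * (hJ' * a) by ring, mul_smul, h3, smul_zero]
    have h4 : h₁ • ((Pi.single a (1 : Ah) : T → Ah) ⊗ₜ[A] ((a : A) • g)) = 0 := by
      rw [← tmul_smul, smul_smul, h2, tmul_zero]
    rw [← algebraMap_smul Ah] at h4
    exact (hua.1.smul_eq_zero).1 h4
  obtain ⟨z, hz⟩ := (hexact _).1 hδg
  obtain ⟨x, rfl⟩ := hΘsurj z
  refine ⟨hne, F, r, ?_, κ.comp Θ, hκ.comp hΘinj, x, hz⟩
  refine Nat.pos_of_ne_zero fun hr => hne ?_
  subst hr
  rw [← hz, show x = 0 from Subsingleton.elim _ _, map_zero, map_zero]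

end Groth.Agent.H8Props.QFFlat
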